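import Groth.Agent.Lib.DiagGrp.FlatSubgroupScheme
import Groth.Agent.Lib.DiagGrp.CharProps
import Groth.Agent.Lib.DiagGrp.BaseChange
import Groth.Agent.Lib.GrpSchField.Points
import Groth.Prelude.Def_RedSub
import Mathlib.AlgebraicGeometry.Sites.Fpqc

/-!
Faithfully flat quotients by the same subgroup are isomorphic.
-/

universe u

open CategoryTheory MonoidalCategory CartesianMonoidalCategory MonObj GrpObj AlgebraicGeometry
open CategoryTheory.Limits

namespace GrothLib.QuotTorus14

open GrothLib.DiagGrp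

variable {S : Scheme.{u}}

theorem whiskerLeft_snd_isPullback {C D : Over S} (A : Over S) (f : C ⟶ D) :
    IsPullback (A ◁ f).left (snd A C).left (snd A D).left f.left := by
  have hw : (A ◁ f).left ≫ (snd A D).left = (snd A C).left ≫ f.left := by
    rw [← Over.comp_left, ← Over.comp_left, whiskerLeft_snd]
  have h1 : (A ◁ f).left ≫ pullback.fst A.hom D.hom = pullback.fst A.hom C.hom := by
    show (A ◁ f).left ≫ (fst A D).left = (fst A C).left
    rw [← Over.comp_left, whiskerLeft_fst]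
  refine IsPullback.of_right (h₁₂ := pullback.fst A.hom D.hom) (v₁₃ := A.hom) (h₂₂ := D.hom)
    ?_ hw (IsPullback.of_hasPullback A.hom D.hom)
  rw [h1, Over.w f]
  exact IsPullback.of_hasPullback A.hom C.hom

theorem whiskerLeft_flat_surjective {A B : Over S} (p : A ⟶ B) [Flat p.left] [Surjective p.left] (C : Over S) :
    Flat (C ◁ p).left ∧ Surjective (C ◁ p).left := by
  have sq := whiskerLeft_snd_isPullback C p
  exact ⟨MorphismProperty.of_isPullback sq.flip ‹Flat p.left›,
    MorphismProperty.of_isPullback sq.flip ‹Surjective p.left›⟩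

theorem whiskerRight_flat_surjective {A B : Over S} (p : A ⟶ B) [Flat p.left] [Surjective p.left] (C : Over S) :
    Flat (p ▷ C).left ∧ Surjective (p ▷ C).left := by
  have e : p ▷ C = (β_ A C).hom ≫ (C ◁ p) ≫ (β_ C B).hom := by
    rw [← BraidedCategory.braiding_naturality_left_assoc, SymmetricCategory.symmetry, Category.comp_id]
  obtain ⟨hf, hs⟩ := whiskerLeft_flat_surjective p C
  have : IsIso (β_ A C).hom.left := inferInstanceAs (IsIso ((Over.forget _).mapIso (β_ A C)).hom)
  have : IsIso (β_ C B).hom.left := inferInstanceAs (IsIso ((Over.forget _).mapIso (β_ C B)).hom)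
  rw [e, Over.comp_left, Over.comp_left]
  exact ⟨inferInstance, inferInstance⟩

/-- An equality of morphisms may be checked on affine points. -/
theorem ext_affine {T X : Over S} {a b : T ⟶ X}
    (h : ∀ (C : Type u) [CommRing C] (p : Spec (CommRingCat.of C) ⟶ S) (t : Over.mk p ⟶ T), t ≫ a = t ≫ b) :
    a = b := by
  apply Over.OverMorphism.ext
  refine Scheme.hom_ext_of_forall _ _ fun P => ?_
  obtain ⟨V, hV, hPV, -⟩ := exists_isAffineOpen_mem_and_subset (TopologicalSpace.Opens.mem_top P)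
  refine ⟨V, hPV, ?_⟩
  have h1 : hV.fromSpec ≫ a.left = hV.fromSpec ≫ b.left :=
    congrArg (fun t => t.left) (h Γ(T.left, V) (hV.fromSpec ≫ T.hom) (Over.homMk hV.fromSpec rfl))
  rw [← IsAffineOpen.isoSpec_hom_fromSpec hV, Category.assoc, Category.assoc, h1]

/-- Descent of a morphism along a faithfully flat morphism, checked on affine points. -/
theorem exists_desc {A B Q : Over S} (c : A ⟶ B) [Flat c.left] [Surjective c.left]
    [LocallyOfFinitePresentation c.left] (l : A ⟶ Q)
    (w : ∀ (C : Type u) [CommRing C] (p : Spec (CommRingCat.of C) ⟶ S) (a a' : Over.mk p ⟶ A),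
      a ≫ c = a' ≫ c → a ≫ l = a' ≫ l) :
    ∃ d : B ⟶ Q, c ≫ d = l := by
  let d₀ : B.left ⟶ Q.left := EffectiveEpi.desc c.left l.left fun {Z} g₁ g₂ hg => by
    let T : Over S := Over.mk (g₁ ≫ A.hom)
    have h2 : g₂ ≫ A.hom = g₁ ≫ A.hom := by rw [← Over.w c, ← reassoc_of% hg]
    let a₁ : T ⟶ A := Over.homMk g₁ rfl
    let a₂ : T ⟶ A := Over.homMk g₂ h2
    have h : a₁ ≫ l = a₂ ≫ l := ext_affine fun C _ p t => by
      rw [← Category.assoc, ← Category.assoc]
      refine w C p _ _ ?_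
      rw [Category.assoc, Category.assoc, show a₁ ≫ c = a₂ ≫ c from Over.OverMorphism.ext hg]
    exact congrArg (fun t => t.left) h
  have hd : c.left ≫ d₀ = l.left := EffectiveEpi.fac _ _ _
  refine ⟨Over.homMk d₀ ?_, Over.OverMorphism.ext hd⟩
  rw [← cancel_epi c.left, reassoc_of% hd, Over.w l]
  exact (Over.w c).symm

theorem epi_of_flat_surjective {A B : Over S} (c : A ⟶ B) [Flat c.left] [Surjective c.left] : Epi c := by
  have : Epi c.left := Flat.epi_of_flat_of_surjective _
  exact (Over.forget S).epi_of_epi_map (inferInstanceAs (Epi c.left))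

theorem isMonHom_desc {A B Q : Over S} [GrpObj A] [GrpObj B] [GrpObj Q] (c : A ⟶ B) [IsMonHom c] [Flat c.left]
    [Surjective c.left] (d : B ⟶ Q) [IsMonHom (c ≫ d)] : IsMonHom d := by
  obtain ⟨hf₁, hs₁⟩ := whiskerRight_flat_surjective c A
  obtain ⟨hf₂, hs₂⟩ := whiskerLeft_flat_surjective c B
  have : Flat (c ⊗ₘ c).left := by rw [MonoidalCategory.tensorHom_def, Over.comp_left]; infer_instance
  have : Surjective (c ⊗ₘ c).left := by rw [MonoidalCategory.tensorHom_def, Over.comp_left]; infer_instance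
  have := epi_of_flat_surjective (c ⊗ₘ c)
  apply GrothLib.GrpSchField.isMonHom_of_mul
  rw [← cancel_epi (c ⊗ₘ c), ← IsMonHom.mul_hom_assoc c, IsMonHom.mul_hom (c ≫ d),
    MonoidalCategory.tensorHom_comp_tensorHom_assoc]

/-- Two faithfully flat quotients with the same kernel pair are isomorphic. -/
theorem exists_iso_of_sameKernel {G Q Q' : Over S} [GrpObj G] [GrpObj Q] [GrpObj Q'] (q : G ⟶ Q) (q' : G ⟶ Q')
    [IsMonHom q] [IsMonHom q'] [Flat q.left] [Surjective q.left] [LocallyOfFinitePresentation q.left]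
    [Flat q'.left] [Surjective q'.left] [LocallyOfFinitePresentation q'.left]
    (h : ∀ (C : Type u) [CommRing C] (p : Spec (CommRingCat.of C) ⟶ S) (a b : Over.mk p ⟶ G),
      a ≫ q = b ≫ q ↔ a ≫ q' = b ≫ q') :
    ∃ e : Grp.mk Q ≅ Grp.mk Q', q ≫ e.hom.hom.hom = q' := by
  obtain ⟨d, hd⟩ := exists_desc q q' fun C _ p a b => (h C p a b).mp
  obtain ⟨d', hd'⟩ := exists_desc q' q fun C _ p a b => (h C p a b).mpr
  haveI := epi_of_flat_surjective q
  haveI := epi_of_flat_surjective q'
  let e : Q ≅ Q' := ⟨d, d', by rw [← cancel_epi q, reassoc_of% hd, hd', Category.comp_id],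
    by rw [← cancel_epi q', reassoc_of% hd', hd, Category.comp_id]⟩
  haveI : IsMonHom (q ≫ d) := hd.symm ▸ ‹IsMonHom q'›
  haveI : IsMonHom e.hom := isMonHom_desc q d
  exact ⟨Grp.mkIso' e, hd⟩

/-- Equality after a quotient map is translation by the subgroup. -/
def Rel {G H Q : Over S} [GrpObj G] (i : H ⟶ G) (q : G ⟶ Q) : Prop :=
  ∀ (T : Over S) (a b : T ⟶ G), a ≫ q = b ≫ q ↔ ∃ h : T ⟶ H, a * (h ≫ i) = b

theorem rel_of_isQuotient {G H Q : Over S} [GrpObj G] [GrpObj H] (i : H ⟶ G) (q : G ⟶ Q)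
    (hq : RedSub.IsQuotient i q) : Rel i q := by
  obtain ⟨-, -, -, sq⟩ := hq
  have he : ∀ (T : Over S) (a : T ⟶ G) (h : T ⟶ H), lift a h ≫ (G ◁ i) ≫ μ[G] = a * (h ≫ i) := fun T a h => by
    rw [lift_whiskerLeft_assoc, Hom.mul_def]
  intro T a b
  refine ⟨fun hab => ⟨sq.lift a b hab ≫ snd G H, ?_⟩, ?_⟩
  · have h0 : sq.lift a b hab = lift a (sq.lift a b hab ≫ snd G H) :=
      CartesianMonoidalCategory.hom_ext _ _ (by rw [lift_fst]; exact sq.lift_fst _ _ _) (by rw [lift_snd])
    rw [← he, ← h0]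
    exact sq.lift_snd _ _ _
  · rintro ⟨h, rfl⟩
    have := congrArg (lift a h ≫ ·) sq.w
    simp only [lift_fst_assoc] at this
    rw [this, ← Category.assoc, he]

theorem Rel.bc {G H Q : Over S} [GrpObj G] {i : H ⟶ G} {q : G ⟶ Q} (hr : Rel i q) {W : Scheme.{u}} (f : W ⟶ S) :
    Rel ((Over.pullback f).map i) ((Over.pullback f).map q) := by
  intro T a b
  obtain ⟨a, rfl⟩ := (bcPointMulEquiv f G T).surjective a
  obtain ⟨b, rfl⟩ := (bcPointMulEquiv f G T).surjective b
  change bcPoint f G T a ≫ _ = bcPoint f G T b ≫ _ ↔ _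
  rw [← bcPoint_comp_right, ← bcPoint_comp_right, Equiv.apply_eq_iff_eq, hr]
  constructor
  · rintro ⟨h, rfl⟩
    refine ⟨bcPoint f H T h, ?_⟩
    rw [← bcPoint_comp_right]
    exact (map_mul (bcPointMulEquiv f G T) _ _).symm
  · rintro ⟨h, hh⟩
    obtain ⟨h, rfl⟩ := (bcPoint f H T).surjective h
    refine ⟨h, (bcPointMulEquiv f G T).injective ?_⟩
    rw [map_mul]
    change _ * bcPoint f G T (h ≫ i) = _
    rw [bcPoint_comp_right]
    exact hh

end GrothLib.QuotTorus14
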