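import Groth.Agent.Lib.QuotTorus14.Basic
import Groth.Agent.Lib.DiagGrp.FlatMultType
import Groth.Agent.Lib.DiagGrp.Torus
import Groth.Agent.Lib.MultDef14.SubTransporter
import Mathlib.LinearAlgebra.Dimension.Free
import Mathlib.LinearAlgebra.FreeModule.PID

/-!
Quotients of split tori by subgroups of multiplicative type are locally split tori.
-/

universe u

open CategoryTheory MonoidalCategory CartesianMonoidalCategory MonObj GrpObj AlgebraicGeometry
open CategoryTheory.Limits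

namespace GrothLib.QuotTorus14

open GrothLib.DiagGrp

variable {S : Scheme.{u}}

theorem isMultTypeFT_of_charts {G : Over S} [GrpObj G] (h : HasChartsFpqc fgM G) : SGA3x.IsMultTypeFT G := by
  obtain ⟨S', π, h1, h2, h3, h4⟩ := h
  exact ⟨S', π, h1, h2, h3, fun s' => by
    obtain ⟨U, hU, M, inst, hM, e⟩ := h4 s'
    exact ⟨U, hU, M, inst, hM, e⟩⟩

theorem isClosedImmersion_to_torus {T H : Over S} [GrpObj T] [GrpObj H] (hT : HasChartsFpqc fgM T)
    (hH : SGA3x.IsMultTypeFT H) (i : H ⟶ T) [IsMonHom i] [Mono i] : IsClosedImmersion i.left :=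
  MultDef14.isClosedImmersion_of_mono hH (EssFree.isAffineHom_multTypeFT T (isMultTypeFT_of_charts hT)) i

theorem hasChartsFpqc_of_locallySplit {T : Over S} [GrpObj T]
    (hT : ∀ s : S, ∃ U : S.Opens, s ∈ U ∧ ∃ r : ℕ, Red.IsSplitTorusWith (Fin r → ℤ) (Red.bc U.ι T)) :
    HasChartsFpqc fgM T := by
  refine ⟨S, 𝟙 S, inferInstance, inferInstance, fun V hV => ⟨V, hV.isCompact, by simp⟩, fun s => ?_⟩
  obtain ⟨U, hU, r, e⟩ := hT s
  refine ⟨U, hU, _, _, fg_int_pi r, ?_⟩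
  rw [Category.comp_id]
  exact e

/-- The structure map of a diagonalisable quotient map. -/
theorem dsmap_fppf {W : Scheme.{u}} {L N : Type} [AddCommGroup L] [AddCommGroup N] (hL : AddGroup.FG L)
    (hN : AddGroup.FG N) (φ : N →+ L) (hφ : Function.Injective φ) :
    Flat (Red.DSmap W φ).left ∧ Surjective (Red.DSmap W φ).left ∧
      LocallyOfFinitePresentation (Red.DSmap W φ).left := by
  obtain ⟨h1, h2⟩ := charCond_flat_surjective.dsmap φ hφ W
  refine ⟨h1, h2, ?_⟩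
  have := locallyOfFiniteType_diag.{u} N hN
  have := locallyOfFinitePresentation_diag.{u} L hL
  refine lfp_of_comp_of_lft _ (Red.DS W N).hom ?_
    (inferInstanceAs (LocallyOfFiniteType (pullback.snd (Red.diag (ULift.{u} ℤ) N).hom _)))
  rw [Over.w (Red.DSmap W φ)]
  exact inferInstanceAs (LocallyOfFinitePresentation (pullback.snd (Red.diag (ULift.{u} ℤ) L).hom _))

variable {L : Type} [AddCommGroup L]

theorem comp_subtype_eq_iff {W : Scheme.{u}} (Δ : AddSubgroup L) {C : Type u} [CommRing C]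
    (p : Spec (CommRingCat.of C) ⟶ W) (χ χ' : Multiplicative L →* C) :
    dsPoint L p χ ≫ Red.DSmap W Δ.subtype = dsPoint L p χ' ≫ Red.DSmap W Δ.subtype ↔
      ∀ l : Δ, χ (Multiplicative.ofAdd (l : L)) = χ' (Multiplicative.ofAdd (l : L)) := by
  rw [dsPoint_DSmap, dsPoint_DSmap, EmbeddingLike.apply_eq_iff_eq]
  exact ⟨fun h l => DFunLike.congr_fun h (Multiplicative.ofAdd l), fun h => MonoidHom.ext fun l => h l.toAdd⟩

/-- Near every point of an affine base a quotient of `D(L)` by a subgroup of multiplicative type has the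
kernel pair of `D(L) ⟶ D(Δ)`. -/
theorem exists_rel_local {R : Type u} [CommRing R] (hL : AddGroup.FG L)
    {T H Q : Over S} [GrpObj T] [GrpObj H] [GrpObj Q] (f : Spec (CommRingCat.of R) ⟶ S)
    (e : Grp.mk (Red.bc f T) ≅ Grp.mk (Red.DS (Spec (CommRingCat.of R)) L))
    (i : H ⟶ T) [IsMonHom i] (hi : IsClosedImmersion i.left) (hH : SGA3x.IsMultTypeFT H)
    (q : T ⟶ Q) (hr : Rel i q) (x : PrimeSpectrum R) :
    ∃ g : R, g ∉ x.asIdeal ∧ ∃ Δ : AddSubgroup L, ∀ (C : Type u) [CommRing C] (σ : R →+* C), IsUnit (σ g) →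
      ∀ a b : Over.mk (Spec.map (CommRingCat.ofHom σ)) ⟶ Red.DS (Spec (CommRingCat.of R)) L,
        a ≫ e.inv.hom.hom ≫ (Over.pullback f).map q = b ≫ e.inv.hom.hom ≫ (Over.pullback f).map q ↔
          a ≫ Red.DSmap (Spec (CommRingCat.of R)) Δ.subtype = b ≫ Red.DSmap (Spec (CommRingCat.of R)) Δ.subtype := by
  let u : Red.bc f H ⟶ Red.DS (Spec (CommRingCat.of R)) L := (Over.pullback f).map i ≫ e.hom.hom.hom
  haveI : IsMonHom e.hom.hom.hom := e.hom.hom.isMonHom_hom
  haveI : IsMonHom e.inv.hom.hom := e.inv.hom.isMonHom_hom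
  haveI := hi
  haveI hpl : IsClosedImmersion ((Over.pullback f).map i).left :=
    (MorphismProperty.baseChange_map (P := @IsClosedImmersion) f i hi)
  have hu : IsClosedImmersion u.left := by
    haveI : IsIso e.hom.hom.hom := inferInstanceAs (IsIso ((Grp.forget _).mapIso e).hom)
    haveI : IsIso e.hom.hom.hom.left := inferInstanceAs (IsIso ((Over.forget _).map e.hom.hom.hom))
    exact inferInstanceAs (IsClosedImmersion (((Over.pullback f).map i).left ≫ e.hom.hom.hom.left))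
  haveI := flat_of_charts (hasChartsFpqc_of_isMultTypeFT hH)
  haveI := lfp_of_isMultTypeFT hH
  obtain ⟨g, hg, Δ, hΔ⟩ := exists_factor_of_flat u hu
    (inferInstanceAs (Flat (pullback.snd H.hom f))) (inferInstanceAs (LocallyOfFinitePresentation (pullback.snd H.hom f)))
    hL x
  refine ⟨g, hg, Δ, fun C _ σ hσ => ?_⟩
  obtain ⟨h1, h2⟩ := hΔ C σ hσ
  have hee : e.inv.hom.hom ≫ e.hom.hom.hom = 𝟙 _ := congrArg (fun t => t.hom.hom) e.inv_hom_id
  have hee' : e.hom.hom.hom ≫ e.inv.hom.hom = 𝟙 _ := congrArg (fun t => t.hom.hom) e.hom_inv_id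
  set p := Spec.map (CommRingCat.ofHom σ)
  intro a b
  rw [← Category.assoc, ← Category.assoc, hr.bc f]
  have key : ∀ c : Over.mk p ⟶ Red.DS (Spec (CommRingCat.of R)) L,
      (∃ h : Over.mk p ⟶ Red.bc f H, h ≫ u = c) ↔ c ≫ Red.DSmap _ Δ.subtype = 1 := by
    intro c
    obtain ⟨χ, rfl⟩ := (dsPoint L p).surjective c
    rw [← map_one (dsPoint Δ p), dsPoint_DSmap, EmbeddingLike.apply_eq_iff_eq]
    constructor
    · rintro ⟨h, hh⟩
      obtain ⟨y, hy⟩ := h1 (Over.mk p) (𝟙 _) (Category.id_comp _) h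
      obtain ⟨χ', rfl⟩ := (dsPoint (L ⧸ Δ) p).surjective y
      rw [hh, dsPoint_DSmap] at hy
      have h3 := (dsPoint L p).injective hy
      refine MonoidHom.ext fun l => ?_
      change χ (Multiplicative.ofAdd ((l.toAdd : Δ) : L)) = 1
      rw [← h3]
      change χ' (Multiplicative.ofAdd (QuotientAddGroup.mk' Δ ((l.toAdd : Δ) : L))) = 1
      rw [show QuotientAddGroup.mk' Δ ((l.toAdd : Δ) : L) = 0 from (QuotientAddGroup.eq_zero_iff _).mpr l.toAdd.2]
      exact map_one χ'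
    · intro hχ
      let χ' : Multiplicative (L ⧸ Δ) →* C := AddMonoidHom.toMultiplicativeLeft
        (QuotientAddGroup.lift Δ (MonoidHom.toAdditiveRight χ) fun m hm =>
          congrArg Additive.ofMul (DFunLike.congr_fun hχ (Multiplicative.ofAdd (⟨m, hm⟩ : Δ))))
      obtain ⟨y, hy⟩ := h2 (Over.mk p) (𝟙 _) (Category.id_comp _) (dsPoint (L ⧸ Δ) p χ')
      refine ⟨y, hy.trans ?_⟩
      rw [dsPoint_DSmap]
      exact congrArg _ (MonoidHom.ext fun m => rfl)
  haveI := isMonHom_DSmap (Spec (CommRingCat.of R)) Δ.subtype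
  have hrhs : a ≫ Red.DSmap (Spec (CommRingCat.of R)) Δ.subtype = b ≫ Red.DSmap _ Δ.subtype ↔
      (a⁻¹ * b) ≫ Red.DSmap (Spec (CommRingCat.of R)) Δ.subtype = 1 := by
    exact (((MonObj.mul_comp a⁻¹ b (Red.DSmap (Spec (CommRingCat.of R)) Δ.subtype)).trans
      (congrArg (· * _) (GrpObj.inv_comp a (Red.DSmap (Spec (CommRingCat.of R)) Δ.subtype)))).congr_left.trans inv_mul_eq_one).symm
  rw [hrhs, ← key]
  constructor
  · rintro ⟨h, hh⟩
    refine ⟨h, ?_⟩
    have h3 := congrArg (· ≫ e.hom.hom.hom) hh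
    simp only [MonObj.mul_comp, Category.assoc, hee, Category.comp_id] at h3
    rw [← h3, inv_mul_cancel_left]
  · rintro ⟨h, hh⟩
    refine ⟨h, ?_⟩
    have h3 : h ≫ (Over.pullback f).map i = (a⁻¹ * b) ≫ e.inv.hom.hom := by
      rw [← hh]
      simp only [u, Category.assoc, hee', Category.comp_id]
    rw [h3]
    exact (MonObj.mul_comp a (a⁻¹ * b) e.inv.hom.hom).symm.trans (congrArg (· ≫ _) (mul_inv_cancel_left a b))

/-- A subgroup of `ℤ^r` is `ℤ^r'` with `r' ≤ r`. -/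
theorem exists_addEquiv_pi {r : ℕ} (Δ : AddSubgroup (Fin r → ℤ)) :
    ∃ r' : ℕ, r' ≤ r ∧ Nonempty ((Fin r' → ℤ) ≃+ Δ) := by
  let N := AddSubgroup.toIntSubmodule Δ
  refine ⟨Module.finrank ℤ N, ?_, ⟨(Module.finBasis ℤ N).equivFun.symm.toAddEquiv⟩⟩
  simpa using Submodule.finrank_le N

/-- A bijection of character groups gives an isomorphism of diagonalisable groups. -/
theorem exists_iso_DS (W : Scheme.{u}) {N N' : Type} [AddCommGroup N] [AddCommGroup N'] (φ : N ≃+ N') :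
    Nonempty (Grp.mk (Red.DS W N') ≅ Grp.mk (Red.DS W N)) := by
  haveI : IsIso ((Over.forget W).map (Red.DSmap W φ.toAddMonoidHom)) :=
    charCond_iso.dsmap φ.toAddMonoidHom φ.bijective W
  haveI : IsIso (Red.DSmap W φ.toAddMonoidHom) := isIso_of_reflects_iso _ (Over.forget W)
  haveI : IsMonHom (asIso (Red.DSmap W φ.toAddMonoidHom)).hom := isMonHom_DSmap W φ.toAddMonoidHom
  exact ⟨Grp.mkIso' (asIso (Red.DSmap W φ.toAddMonoidHom))⟩

/-- A quotient with the kernel pair of `D(ℤ^r) ⟶ D(Δ)` is a split torus. -/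
theorem exists_split {W : Scheme.{u}} {T Q : Over W} [GrpObj T] [GrpObj Q] {r : ℕ}
    (e : Grp.mk T ≅ Grp.mk (Red.DS W (Fin r → ℤ))) (q : T ⟶ Q) [IsMonHom q] (hflat : Flat q.left)
    (hsurj : Surjective q.left) (hlfp : LocallyOfFinitePresentation q.left) (Δ : AddSubgroup (Fin r → ℤ))
    (h : ∀ (C : Type u) [CommRing C] (p : Spec (CommRingCat.of C) ⟶ W)
      (a b : Over.mk p ⟶ Red.DS W (Fin r → ℤ)),
      a ≫ e.inv.hom.hom ≫ q = b ≫ e.inv.hom.hom ≫ q ↔
        a ≫ Red.DSmap W Δ.subtype = b ≫ Red.DSmap W Δ.subtype) :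
    ∃ r' : ℕ, r' ≤ r ∧ Red.IsSplitTorusWith (Fin r' → ℤ) Q := by
  haveI : IsMonHom e.inv.hom.hom := e.inv.hom.isMonHom_hom
  haveI : IsIso e.inv.hom.hom := inferInstanceAs (IsIso ((Grp.forget _).mapIso e).inv)
  haveI : IsIso e.inv.hom.hom.left := inferInstanceAs (IsIso ((Over.forget _).map e.inv.hom.hom))
  haveI : Flat (e.inv.hom.hom ≫ q).left := by rw [Over.comp_left]; infer_instance
  haveI : Surjective (e.inv.hom.hom ≫ q).left := by rw [Over.comp_left]; infer_instance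
  haveI : LocallyOfFinitePresentation (e.inv.hom.hom ≫ q).left := by rw [Over.comp_left]; infer_instance
  obtain ⟨r', hr', ⟨ψ⟩⟩ := exists_addEquiv_pi Δ
  have hfgΔ : AddGroup.FG Δ := by
    haveI : AddGroup.FG (Fin r' → ℤ) := fg_int_pi r'
    exact AddGroup.fg_of_surjective (f := ψ.toAddMonoidHom) ψ.surjective
  obtain ⟨_, _, _⟩ := dsmap_fppf (W := W) (fg_int_pi r) hfgΔ Δ.subtype Subtype.val_injective
  obtain ⟨e', -⟩ := exists_iso_of_sameKernel (e.inv.hom.hom ≫ q) (Red.DSmap W Δ.subtype) h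
  obtain ⟨e''⟩ := exists_iso_DS W ψ
  exact ⟨r', hr', ⟨e' ≪≫ e''⟩⟩

end GrothLib.QuotTorus14
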