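import Groth.Agent.Lib.QuotTorus14.Split

/-!
Quotients of tori by subgroups of multiplicative type are tori.
-/

universe u

open CategoryTheory MonoidalCategory CartesianMonoidalCategory MonObj GrpObj AlgebraicGeometry
open CategoryTheory.Limits

namespace GrothLib.QuotTorus14

open GrothLib.DiagGrp

variable {S : Scheme.{u}}

/-- Comparison of kernel pairs passes to base change. -/
theorem sameKernel_bc {W Z : Scheme.{u}} (z : Z ⟶ W) {A B B' : Over W} (q : A ⟶ B) (v : A ⟶ B')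
    (h : ∀ (C : Type u) [CommRing C] (p : Spec (CommRingCat.of C) ⟶ Z) (a b : Over.mk (p ≫ z) ⟶ A),
      a ≫ q = b ≫ q ↔ a ≫ v = b ≫ v)
    (C : Type u) [CommRing C] (p : Spec (CommRingCat.of C) ⟶ Z) (a b : Over.mk p ⟶ Red.bc z A) :
    a ≫ (Over.pullback z).map q = b ≫ (Over.pullback z).map q ↔
      a ≫ (Over.pullback z).map v = b ≫ (Over.pullback z).map v := by
  obtain ⟨a, rfl⟩ := (bcPoint z A (Over.mk p)).surjective a
  obtain ⟨b, rfl⟩ := (bcPoint z A (Over.mk p)).surjective b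
  rw [← bcPoint_comp_right, ← bcPoint_comp_right, ← bcPoint_comp_right, ← bcPoint_comp_right,
    Equiv.apply_eq_iff_eq, Equiv.apply_eq_iff_eq]
  exact h C p a b

/-- The base change of a diagonalisable group is diagonalisable. -/
noncomputable abbrev dsIso {W Z : Scheme.{u}} (z : Z ⟶ W) (M : Type) [AddCommGroup M] :
    Grp.mk (Red.DS Z M) ≅ Grp.mk (Red.bc z (Red.DS W M)) :=
  bcGrpComp (Red.diag (ULift.{u} ℤ) M) (Limits.IsTerminal.from specULiftZIsTerminal W) z
    (Limits.IsTerminal.from specULiftZIsTerminal Z) (specULiftZIsTerminal.hom_ext _ _)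

theorem dsIso_naturality {W Z : Scheme.{u}} (z : Z ⟶ W) {M N : Type} [AddCommGroup M] [AddCommGroup N] (φ : N →+ M) :
    Red.DSmap Z φ ≫ ((Grp.forget _).mapIso (dsIso z N)).hom =
      ((Grp.forget _).mapIso (dsIso z M)).hom ≫ (Over.pullback z).map (Red.DSmap W φ) :=
  bcGrpComp_naturality (Red.diagMap (ULift.{u} ℤ) φ) _ z _ _

theorem exists_chart_precomp {G : Over S} [GrpObj G] {M : Type} [AddCommGroup M] {W W' : Scheme.{u}} (f : W ⟶ S)
    (g : W' ⟶ W) (f' : W' ⟶ S) (hf' : f' = g ≫ f) (e : Grp.mk (Red.bc f G) ≅ Grp.mk (Red.DS W M)) :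
    Nonempty (Grp.mk (Red.bc f' G) ≅ Grp.mk (Red.DS W' M)) := by
  let e1 : Grp.mk (Red.bc g (Red.bc f G)) ≅ Grp.mk (Red.bc g (Red.DS W M)) :=
    (Over.pullback g).mapGrp.mapIso e
  exact ⟨bcGrpComp G f g f' hf' ≪≫ e1 ≪≫ (dsIso g M).symm⟩

/-- An isomorphism intertwining transports comparisons of kernel pairs. -/
theorem sameKernel_transport {Z : Scheme.{u}} {A A' B P P' : Over Z} (c : A' ⟶ A) (q : A ⟶ B) (v : A ⟶ P)
    (v' : A' ⟶ P') (d : P' ⟶ P) [Mono d] (hn : v' ≫ d = c ≫ v) {X : Over Z} (a b : X ⟶ A')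
    (h : (a ≫ c) ≫ q = (b ≫ c) ≫ q ↔ (a ≫ c) ≫ v = (b ≫ c) ≫ v) :
    a ≫ c ≫ q = b ≫ c ≫ q ↔ a ≫ v' = b ≫ v' := by
  rw [← Category.assoc, ← Category.assoc, h, Category.assoc, Category.assoc, ← hn, ← Category.assoc,
    ← Category.assoc, cancel_mono]

/-- The inverse direction of `sameKernel_transport`. -/
theorem sameKernel_transport' {Z : Scheme.{u}} {A A' B P P' : Over Z} (c : A' ≅ A) (q : A ⟶ B) (v : A ⟶ P)
    (v' : A' ⟶ P') (d : P' ≅ P) (hn : v' ≫ d.hom = c.hom ≫ v) {X : Over Z} (a b : X ⟶ A)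
    (h : (a ≫ c.inv) ≫ c.hom ≫ q = (b ≫ c.inv) ≫ c.hom ≫ q ↔ (a ≫ c.inv) ≫ v' = (b ≫ c.inv) ≫ v') :
    a ≫ q = b ≫ q ↔ a ≫ v = b ≫ v := by
  have e : c.inv ≫ v' = v ≫ d.inv := by
    rw [Iso.inv_comp_eq, ← Category.assoc, ← hn, Category.assoc, Iso.hom_inv_id, Category.comp_id]
  simp only [Category.assoc, Iso.inv_hom_id_assoc, e] at h
  rw [h, ← Category.assoc, ← Category.assoc, cancel_mono]

/-- A quotient with the kernel pair of `D(ℤ^r) ⟶ D(Δ)` over a test scheme is split there. -/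
theorem exists_split_bc {W Z : Scheme.{u}} (z : Z ⟶ W) {r : ℕ} {B : Over W} [GrpObj B]
    (v : Red.DS W (Fin r → ℤ) ⟶ B) [IsMonHom v] (h1 : Flat v.left) (h2 : Surjective v.left)
    (h3 : LocallyOfFinitePresentation v.left) (Δ : AddSubgroup (Fin r → ℤ))
    (h : ∀ (C : Type u) [CommRing C] (p : Spec (CommRingCat.of C) ⟶ Z)
      (a b : Over.mk (p ≫ z) ⟶ Red.DS W (Fin r → ℤ)),
      a ≫ v = b ≫ v ↔ a ≫ Red.DSmap W Δ.subtype = b ≫ Red.DSmap W Δ.subtype) :
    ∃ r' : ℕ, r' ≤ r ∧ Red.IsSplitTorusWith (Fin r' → ℤ) (Red.bc z B) :=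
  exists_split (dsIso z (Fin r → ℤ)).symm ((Over.pullback z).map v)
    (MorphismProperty.baseChange_map (P := @Flat) z v h1)
    (MorphismProperty.baseChange_map (P := @Surjective) z v h2)
    (MorphismProperty.baseChange_map (P := @LocallyOfFinitePresentation) z v h3) Δ
    fun C _ p a b => sameKernel_transport _ _ _ _ _ (dsIso_naturality z Δ.subtype) a b
      (sameKernel_bc z v (Red.DSmap W Δ.subtype) h C p _ _)

/-- A quotient of a group which is a split torus near a point is a split torus near that point. -/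
theorem exists_split_near {S' : Scheme.{u}} (π : S' ⟶ S) {T H Q : Over S} [GrpObj T] [GrpObj H] [GrpObj Q]
    (i : H ⟶ T) [IsMonHom i] (hi : IsClosedImmersion i.left) (hH : SGA3x.IsMultTypeFT H)
    (q : T ⟶ Q) [IsMonHom q] (hflat : Flat q.left) (hsurj : Surjective q.left)
    (hlfp : LocallyOfFinitePresentation q.left) (hr : Rel i q)
    (U : S'.Opens) (w : S') (hw : w ∈ U) (r : ℕ)
    (hU : Red.IsSplitTorusWith (Fin r → ℤ) (Red.bc (U.ι ≫ π) T)) :
    ∃ V' : S'.Opens, w ∈ V' ∧ ∃ r' : ℕ, r' ≤ r ∧ Red.IsSplitTorusWith (Fin r' → ℤ) (Red.bc (V'.ι ≫ π) Q) := by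
  obtain ⟨V, hV, hwV, hVU⟩ := exists_isAffineOpen_mem_and_subset hw
  let f : Spec Γ(S', V) ⟶ S := hV.fromSpec ≫ π
  have hrg : Set.range hV.fromSpec ⊆ Set.range U.ι := by
    rw [IsAffineOpen.range_fromSpec, Scheme.Opens.range_ι]
    exact hVU
  obtain ⟨e₀⟩ := hU
  obtain ⟨e⟩ := exists_chart_precomp (U.ι ≫ π) (IsOpenImmersion.lift U.ι hV.fromSpec hrg) f
    (by rw [← Category.assoc, IsOpenImmersion.lift_fac]) e₀
  obtain ⟨g, hg, Δ, hΔ⟩ := exists_rel_local (fg_int_pi r) f e i hi hH q hr (hV.primeIdealOf ⟨w, hwV⟩)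
  let V' := S'.basicOpen g
  have hV'V : V' ≤ V := S'.basicOpen_le g
  have hV' : IsAffineOpen V' := hV.basicOpen g
  have hwV' : w ∈ V' := by
    have h2 : hV.primeIdealOf ⟨w, hwV⟩ ∈ hV.fromSpec ⁻¹ᵁ S'.basicOpen g := by
      rw [hV.fromSpec_preimage_basicOpen]
      exact hg
    have h3 : hV.fromSpec.base (hV.primeIdealOf ⟨w, hwV⟩) ∈ S'.basicOpen g := h2
    rwa [hV.fromSpec_primeIdealOf] at h3
  let σ₀ := (S'.presheaf.map (homOfLE hV'V).op).hom
  have hσ₀ : IsUnit (σ₀ g) := RingedSpace.isUnit_res_basicOpen S'.toRingedSpace g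
  let z : Spec Γ(S', V') ⟶ Spec Γ(S', V) := Spec.map (CommRingCat.ofHom σ₀)
  haveI : IsMonHom e.inv.hom.hom := e.inv.hom.isMonHom_hom
  haveI : IsIso e.inv.hom.hom := inferInstanceAs (IsIso ((Grp.forget _).mapIso e).inv)
  haveI : IsIso e.inv.hom.hom.left := inferInstanceAs (IsIso ((Over.forget _).map e.inv.hom.hom))
  let qW := e.inv.hom.hom ≫ (Over.pullback f).map q
  haveI : IsMonHom ((Over.pullback f).map q) := inferInstance
  haveI : IsMonHom qW := isMonHom_of_points _ fun Y a b =>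
    (Category.assoc _ _ _).symm.trans ((congrArg (· ≫ (Over.pullback f).map q)
      (MonObj.mul_comp a b e.inv.hom.hom)).trans ((MonObj.mul_comp _ _ ((Over.pullback f).map q)).trans
        (by rw [Category.assoc, Category.assoc])))
  have hq1 : Flat ((Over.pullback f).map q).left := MorphismProperty.baseChange_map (P := @Flat) f q hflat
  have hq2 : Surjective ((Over.pullback f).map q).left := MorphismProperty.baseChange_map (P := @Surjective) f q hsurj
  have hq3 : LocallyOfFinitePresentation ((Over.pullback f).map q).left :=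
    MorphismProperty.baseChange_map (P := @LocallyOfFinitePresentation) f q hlfp
  have hqW1 : Flat qW.left := by rw [Over.comp_left]; infer_instance
  have hqW2 : Surjective qW.left := by rw [Over.comp_left]; infer_instance
  have hqW3 : LocallyOfFinitePresentation qW.left := by rw [Over.comp_left]; infer_instance
  obtain ⟨r', hr', ⟨e'⟩⟩ := exists_split_bc z qW hqW1 hqW2 hqW3 Δ (fun C _ p' => by
    have key : ∀ (p'' : Spec (CommRingCat.of C) ⟶ Spec Γ(S', V)),
        p'' = Spec.map (CommRingCat.ofHom ((Spec.preimage p').hom.comp σ₀)) →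
        ∀ a b : Over.mk p'' ⟶ Red.DS (Spec Γ(S', V)) (Fin r → ℤ),
        a ≫ qW = b ≫ qW ↔ a ≫ Red.DSmap _ Δ.subtype = b ≫ Red.DSmap _ Δ.subtype := by
      rintro _ rfl a b
      exact hΔ C _ (hσ₀.map (Spec.preimage p').hom) a b
    refine key _ ?_
    rw [CommRingCat.ofHom_comp, Spec.map_comp]
    congr 1
    exact (Spec.map_preimage p').symm)
  have hzf : V'.ι ≫ π = hV'.isoSpec.hom ≫ z ≫ f := by
    have h4 : z ≫ hV.fromSpec = hV'.fromSpec := hV.map_fromSpec hV' _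
    have h5 : z ≫ f = hV'.fromSpec ≫ π := (Category.assoc _ _ _).symm.trans (congrArg (· ≫ π) h4)
    rw [h5, ← Category.assoc, IsAffineOpen.isoSpec_hom_fromSpec]
  obtain ⟨e''⟩ := exists_chart_precomp (z ≫ f) hV'.isoSpec.hom (V'.ι ≫ π) hzf
    (bcGrpComp Q f z (z ≫ f) rfl ≪≫ e')
  exact ⟨V', hwV', r', hr', ⟨e''⟩⟩

section Connected

variable {L : Type} [AddCommGroup L] {Q : Over S} (q : Red.DS S L ⟶ Q)

/-- Over `U` the kernel pair of `q` is that of `D(L) ⟶ D(Δ)`. -/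
def Good (U : S.Opens) (Δ : AddSubgroup L) : Prop :=
  ∀ (C : Type u) [CommRing C] (p : Spec (CommRingCat.of C) ⟶ S), (∀ x, p.base x ∈ U) →
    ∀ a b : Over.mk p ⟶ Red.DS S L, a ≫ q = b ≫ q ↔ a ≫ Red.DSmap S Δ.subtype = b ≫ Red.DSmap S Δ.subtype

theorem exists_good (hL : AddGroup.FG L) {H : Over S} [GrpObj H] [GrpObj Q] (i : H ⟶ Red.DS S L) [IsMonHom i]
    (hi : IsClosedImmersion i.left) (hH : SGA3x.IsMultTypeFT H) (hr : Rel i q) (s : S) :
    ∃ U : S.Opens, s ∈ U ∧ ∃ Δ : AddSubgroup L, Good q U Δ := by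
  obtain ⟨V, hV, hsV, -⟩ := exists_isAffineOpen_mem_and_subset (TopologicalSpace.Opens.mem_top s)
  let f : Spec Γ(S, V) ⟶ S := hV.fromSpec
  obtain ⟨g, hg, Δ, hΔ⟩ := exists_rel_local hL f (dsIso f L).symm i hi hH q hr (hV.primeIdealOf ⟨s, hsV⟩)
  refine ⟨S.basicOpen g, ?_, Δ, fun C _ p hp a b => ?_⟩
  · have h2 : hV.primeIdealOf ⟨s, hsV⟩ ∈ hV.fromSpec ⁻¹ᵁ S.basicOpen g := by
      rw [hV.fromSpec_preimage_basicOpen]
      exact hg
    have h3 : hV.fromSpec.base (hV.primeIdealOf ⟨s, hsV⟩) ∈ S.basicOpen g := h2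
    rwa [hV.fromSpec_primeIdealOf] at h3
  have hrp : Set.range p ⊆ Set.range hV.fromSpec := by
    rw [IsAffineOpen.range_fromSpec]
    rintro _ ⟨x, rfl⟩
    exact S.basicOpen_le g (hp x)
  set p₁ := IsOpenImmersion.lift hV.fromSpec p hrp
  have hfac : p₁ ≫ f = p := IsOpenImmersion.lift_fac _ _ _
  clear_value p₁
  subst hfac
  obtain ⟨φ, rfl⟩ : ∃ φ, Spec.map φ = p₁ := ⟨_, Spec.map_preimage p₁⟩
  have hunit : IsUnit (φ.hom g) := by
    by_contra hne
    obtain ⟨P, hP, hgP⟩ := exists_max_ideal_of_mem_nonunits (show φ.hom g ∈ nonunits C from hne)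
    let x : PrimeSpectrum C := ⟨P, hP.isPrime⟩
    have h1 : hV.fromSpec.base ((Spec.map φ).base x) ∈ S.basicOpen g := hp x
    have h2 : (Spec.map φ).base x ∈ hV.fromSpec ⁻¹ᵁ S.basicOpen g := h1
    rw [hV.fromSpec_preimage_basicOpen] at h2
    exact h2 hgP
  obtain ⟨a, rfl⟩ := (bcPoint f (Red.DS S L) (Over.mk (Spec.map φ))).symm.surjective a
  obtain ⟨b, rfl⟩ := (bcPoint f (Red.DS S L) (Over.mk (Spec.map φ))).symm.surjective b
  refine ((bcPoint f Q (Over.mk (Spec.map φ))).injective.eq_iff).symm.trans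
    (Iff.trans ?_ ((bcPoint f (Red.DS S Δ) (Over.mk (Spec.map φ))).injective.eq_iff))
  rw [
    bcPoint_comp_right, bcPoint_comp_right, bcPoint_comp_right, bcPoint_comp_right, Equiv.apply_symm_apply,
    Equiv.apply_symm_apply]
  exact sameKernel_transport' ((Grp.forget _).mapIso (dsIso f L)) _ _ _ ((Grp.forget _).mapIso (dsIso f Δ))
    (dsIso_naturality f Δ.subtype) a b (hΔ C φ.hom hunit _ _)

theorem good_unique {U U' : S.Opens} {Δ Δ' : AddSubgroup L} (h : Good q U Δ) (h' : Good q U' Δ') (x : S)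
    (hx : x ∈ U) (hx' : x ∈ U') : Δ' ≤ Δ := by
  intro l hl
  let C := MonoidAlgebra (S.residueField x) (Multiplicative (L ⧸ Δ))
  let p : Spec (CommRingCat.of C) ⟶ S :=
    Spec.map (CommRingCat.ofHom (algebraMap (S.residueField x) C)) ≫ S.fromSpecResidueField x
  have hp : ∀ y, p.base y = x := fun y => S.fromSpecResidueField_apply x _
  let χ : Multiplicative L →* C :=
    (MonoidAlgebra.of (S.residueField x) _).comp (AddMonoidHom.toMultiplicative (QuotientAddGroup.mk' Δ))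
  have h1 : dsPoint L p χ ≫ Red.DSmap S Δ.subtype = dsPoint L p 1 ≫ Red.DSmap S Δ.subtype :=
    (comp_subtype_eq_iff Δ p χ 1).mpr fun m => by
      change MonoidAlgebra.of (S.residueField x) _ (Multiplicative.ofAdd (QuotientAddGroup.mk' Δ (m : L))) = 1
      rw [show QuotientAddGroup.mk' Δ (m : L) = 0 from (QuotientAddGroup.eq_zero_iff _).mpr m.2]
      exact map_one _
  have h2 := (comp_subtype_eq_iff Δ' p χ 1).mp
    ((h' C p (fun y => (hp y).symm ▸ hx') _ _).mp ((h C p (fun y => (hp y).symm ▸ hx) _ _).mpr h1)) ⟨l, hl⟩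
  have h3 := MonoidAlgebra.of_injective (h2.trans (map_one (MonoidAlgebra.of (S.residueField x) _)).symm)
  exact (QuotientAddGroup.eq_zero_iff l).mp h3

theorem good_global [ConnectedSpace S] (hloc : ∀ s : S, ∃ U : S.Opens, s ∈ U ∧ ∃ Δ : AddSubgroup L, Good q U Δ) :
    ∃ Δ : AddSubgroup L, ∀ (C : Type u) [CommRing C] (p : Spec (CommRingCat.of C) ⟶ S)
      (a b : Over.mk p ⟶ Red.DS S L), a ≫ q = b ≫ q ↔ a ≫ Red.DSmap S Δ.subtype = b ≫ Red.DSmap S Δ.subtype := by
  choose U hU Δ hΔ using hloc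
  obtain ⟨s₀⟩ := (inferInstance : Nonempty S)
  have hlc : IsLocallyConstant Δ := (IsLocallyConstant.iff_exists_open _).mpr fun s =>
    ⟨U s, (U s).isOpen, hU s, fun t ht => le_antisymm
      (good_unique q (hΔ s) (hΔ t) t ht (hU t)) (good_unique q (hΔ t) (hΔ s) t (hU t) ht)⟩
  refine ⟨Δ s₀, fun C _ p a b => ?_⟩
  have hc : ∀ s, Δ s = Δ s₀ := fun s => hlc.apply_eq_of_preconnectedSpace s s₀
  have key : ∀ {X X' : Over S} (v : Red.DS S L ⟶ X) (v' : Red.DS S L ⟶ X'),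
      (∀ (s : S) (C' : Type u) [CommRing C'] (p' : Spec (CommRingCat.of C') ⟶ S), (∀ x, p'.base x ∈ U s) →
        ∀ a b : Over.mk p' ⟶ Red.DS S L, a ≫ v = b ≫ v → a ≫ v' = b ≫ v') →
      a ≫ v = b ≫ v → a ≫ v' = b ≫ v' := by
    intro X X' v v' h hab
    apply Over.OverMorphism.ext
    refine Scheme.hom_ext_of_forall _ _ fun P => ?_
    set s := p.base P
    obtain ⟨V, hV, hPV, hVU⟩ := exists_isAffineOpen_mem_and_subset (show P ∈ p ⁻¹ᵁ U s from hU s)
    refine ⟨V, hPV, ?_⟩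
    let j : Over.mk (hV.fromSpec ≫ p) ⟶ Over.mk p := Over.homMk hV.fromSpec rfl
    have h1 := h s _ (hV.fromSpec ≫ p) (fun x => by
      have hx := Set.mem_range_self (f := hV.fromSpec) x
      rw [hV.range_fromSpec] at hx
      exact hVU hx) (j ≫ a) (j ≫ b)
      (by rw [Category.assoc, Category.assoc, hab])
    have h2 : hV.fromSpec ≫ (a ≫ v').left = hV.fromSpec ≫ (b ≫ v').left := by
      have h3 := congrArg (fun t => t.left) h1
      simp only [Over.comp_left, Category.assoc] at h3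
      exact h3
    rw [← IsAffineOpen.isoSpec_hom_fromSpec hV, Category.assoc, Category.assoc]
    exact congrArg (hV.isoSpec.hom ≫ ·) h2
  refine ⟨key q (Red.DSmap S (Δ s₀).subtype) fun s C' _ p' hp' a b => ?_,
    key (Red.DSmap S (Δ s₀).subtype) q fun s C' _ p' hp' a b => ?_⟩
  · rw [← hc s]
    exact (hΔ s C' p' hp' a b).mp
  · rw [← hc s]
    exact (hΔ s C' p' hp' a b).mpr

end Connected

/-- A quotient of a split torus over a connected base is split. -/
theorem exists_split_of_connected [ConnectedSpace S] {T H Q : Over S} [GrpObj T] [GrpObj H] [GrpObj Q] (r : ℕ)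
    (hT : Red.IsSplitTorusWith (Fin r → ℤ) T) (i : H ⟶ T) [IsMonHom i] (hi : IsClosedImmersion i.left)
    (hH : SGA3x.IsMultTypeFT H) (q : T ⟶ Q) [IsMonHom q] (hflat : Flat q.left) (hsurj : Surjective q.left)
    (hlfp : LocallyOfFinitePresentation q.left) (hr : Rel i q) :
    ∃ r' : ℕ, r' ≤ r ∧ Red.IsSplitTorusWith (Fin r' → ℤ) Q := by
  obtain ⟨e⟩ := hT
  let a : T ≅ Red.DS S (Fin r → ℤ) := (Grp.forget _).mapIso e
  haveI : IsMonHom a.hom := e.hom.hom.isMonHom_hom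
  haveI : IsMonHom a.inv := e.inv.hom.isMonHom_hom
  have hi' : IsClosedImmersion (i ≫ a.hom).left := by
    haveI := hi
    haveI : IsIso a.hom.left := inferInstanceAs (IsIso ((Over.forget _).mapIso a).hom)
    rw [Over.comp_left]
    infer_instance
  have hr' : Rel (i ≫ a.hom) (a.inv ≫ q) := fun T' x y => by
    rw [← Category.assoc, ← Category.assoc, hr T']
    refine exists_congr fun h => ?_
    refine (cancel_mono a.hom).symm.trans ?_
    rw [show (x ≫ a.inv * h ≫ i) ≫ a.hom = (x ≫ a.inv) ≫ a.hom * (h ≫ i) ≫ a.hom from MonObj.mul_comp _ _ a.hom,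
      Category.assoc, Category.assoc, Category.assoc, Iso.inv_hom_id, Category.comp_id, Category.comp_id]
  obtain ⟨Δ, hΔ⟩ := good_global (a.inv ≫ q) (exists_good (a.inv ≫ q) (fg_int_pi r) (i ≫ a.hom) hi' hH hr')
  exact exists_split e q hflat hsurj hlfp Δ hΔ

end GrothLib.QuotTorus14
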